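import Groth.Agent.QCoh16.SerreRel
import Groth.Prelude.Def_FlatMod2

/-!
# Serre's criterion through surjectivity on subsheaves of free modules
-/

set_option autoImplicit false

universe u

open CategoryTheory CategoryTheory.Limits AlgebraicGeometry TopologicalSpace Opposite

namespace Groth.Agent.QCoh16

open Groth.Agent.QCoh

variable {X : Scheme.{u}}

/-- Every closed point has an affine neighbourhood cut out by a global function. -/
theorem exists_basicOpen_affine
    (h : ∀ (Z Z' : Set X) (hZ : Z ⊆ Z'),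
      Function.Surjective ((cokernel.π (incl hZ)).app ⊤))
    {x : X} (hx : IsClosed ({x} : Set X)) :
    ∃ f : Γ(X, ⊤), x ∈ X.basicOpen f ∧ IsAffineOpen (X.basicOpen f) := by
  obtain ⟨_, ⟨U, hU₀, rfl⟩, hxU, -⟩ :=
    X.isBasis_affineOpens.exists_subset_of_mem_open (Set.mem_univ x) isOpen_univ
  have hU : IsAffineOpen U := hU₀
  let Z : Set X := (U : Set X)ᶜ
  let Z' : Set X := insert x Z
  let j := SubMod.homOfLE (N := vanIdeal Z') (N' := vanIdeal Z)
    (vanIdeal_mono (Set.subset_insert x Z))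
  let S : ShortComplex X.Modules := ShortComplex.mk j (cokernel.π j) (cokernel.condition j)
  have hS : S.ShortExact := { exact := ShortComplex.exact_of_g_is_cokernel _ (cokernelIsCokernel j) }
  let V : X.Opens := ⟨{x}ᶜ, hx.isOpen_compl⟩
  have hone : (show Γ(Coh.structureModule X, U) from (1 : Γ(X, U))) ∈ (vanIdeal Z).mem U :=
    fun z hz hzb => hz (X.basicOpen_le _ hzb)
  obtain ⟨e₁, he₁⟩ := (vanIdeal Z).exists_app_eq hone
  let q₁ : Γ(S.X₃, U) := S.g.app U e₁
  have hcomp : S.X₃.presheaf.map (homOfLE (inf_le_left : U ⊓ V ≤ U)).op q₁ = 0 := by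
    have hone' : (show Γ(Coh.structureModule X, U ⊓ V) from (1 : Γ(X, U ⊓ V))) ∈
        (vanIdeal Z').mem (U ⊓ V) := fun z hz hzb => by
      rcases hz with rfl | hz
      · exact (X.basicOpen_le _ hzb).2 rfl
      · exact hz (X.basicOpen_le _ hzb).1
    obtain ⟨e₂, he₂⟩ := (vanIdeal Z').exists_app_eq hone'
    have : S.X₂.presheaf.map (homOfLE (inf_le_left : U ⊓ V ≤ U)).op e₁ = S.f.app (U ⊓ V) e₂ := by
      refine (vanIdeal Z).ι_app_injective _ ?_
      rw [map_app_comm, he₁]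
      exact ((map_one (X.presheaf.map (homOfLE (inf_le_left : U ⊓ V ≤ U)).op).hom).trans he₂.symm :)
    rw [← map_app_comm, this, app_g_f]
  have hcov : (⊤ : X.Opens) ≤ iSup fun b : ULift.{u} Bool => cond b.down U V := fun z _ => by
    by_cases hz : z = x
    · exact Opens.mem_iSup.2 ⟨⟨true⟩, hz ▸ hxU⟩
    · exact Opens.mem_iSup.2 ⟨⟨false⟩, hz⟩
  have hcompat : TopCat.Presheaf.IsCompatible (X := X.toPresheafedSpace.carrier) S.X₃.presheaf
      (fun b : ULift.{u} Bool => cond b.down U V)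
      (fun b => match b with
        | ⟨true⟩ => q₁
        | ⟨false⟩ => (0 : Γ(S.X₃, V))) := by
    rintro ⟨_ | _⟩ ⟨_ | _⟩
    · rfl
    · refine (map_zero (S.X₃.presheaf.map _).hom).trans ?_
      have h' := congrArg (S.X₃.presheaf.map (homOfLE (le_of_eq (inf_comm V U))).op) hcomp
      rw [map_zero, map_map] at h'
      exact h'.symm
    · exact hcomp.trans (map_zero (S.X₃.presheaf.map _).hom).symm
    · rfl
  obtain ⟨q, hq, -⟩ := TopCat.Sheaf.existsUnique_gluing' (X := X.toPresheafedSpace.carrier)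
    (⟨S.X₃.presheaf, S.X₃.isSheaf⟩ : TopCat.Sheaf AddCommGrpCat.{u} X.toPresheafedSpace.carrier)
    _ ⊤ (fun _ => homOfLE le_top) hcov _ hcompat
  obtain ⟨e, he⟩ := h Z Z' (Set.subset_insert x Z) q
  let f : Γ(X, ⊤) := toFn ((vanIdeal Z).ι.app ⊤ e)
  have hfU : X.basicOpen f ≤ U := fun z hz => by
    by_contra hzU
    exact (vanIdeal Z).ι_app_mem ⊤ e z hzU hz
  refine ⟨f, ?_, ?_⟩
  · have hd : S.g.app U (S.X₂.presheaf.map (homOfLE (le_top : U ≤ ⊤)).op e - e₁) = 0 := by
      rw [map_sub, map_app_comm, he, sub_eq_zero]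
      exact hq ⟨true⟩
    obtain ⟨a, ha⟩ := exists_app_f_eq hS U _ hd
    by_contra hxf
    have hxU' : x ∉ X.basicOpen (toFn ((vanIdeal Z').ι.app U a)) :=
      (vanIdeal Z').ι_app_mem U a x (Set.mem_insert x Z)
    rw [show (vanIdeal Z').ι.app U a = (vanIdeal Z).ι.app U (S.f.app U a) from rfl, ha,
      map_sub, map_app_comm, he₁] at hxU'
    have h1 := (notMem_basicOpen_iff _ x hxU).1 hxU'
    rw [show toFn ((Coh.structureModule X).presheaf.map (homOfLE (le_top : U ≤ ⊤)).op
        ((vanIdeal Z).ι.app ⊤ e) - (show Γ(Coh.structureModule X, U) from (1 : Γ(X, U)))) =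
      X.presheaf.map (homOfLE (le_top : U ≤ ⊤)).op f - 1 from rfl, map_sub, map_one] at h1
    have h2 : X.presheaf.germ U x hxU (X.presheaf.map (homOfLE (le_top : U ≤ ⊤)).op f) ∈
        IsLocalRing.maximalIdeal (X.presheaf.stalk x) := by
      refine (notMem_basicOpen_iff _ x hxU).1 ?_
      rw [Scheme.basicOpen_res]
      exact fun hh => hxf hh.2
    exact (IsLocalRing.maximalIdeal.isMaximal (X.presheaf.stalk x)).ne_top
      ((Ideal.eq_top_iff_one _).2 (by simpa using sub_mem h2 h1))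
  · have := Scheme.basicOpen_res X f (homOfLE (le_top : U ≤ ⊤)).op
    rw [inf_eq_right.2 hfU] at this
    rw [← this]
    exact hU.basicOpen _

theorem isQCoh_free (n : ℕ) : Coh.IsQCoh (FlatMod.freeMod X n) := by
  have h := isQCoh_colimit (Discrete.functor fun _ : ULift.{u} (Fin n) => Coh.structureModule X)
    fun _ => isQCoh_structureModule
  exact (isQCoh_iff_iso (Sigma.whiskerEquiv (f := fun _ : ULift.{u} (Fin n) => Coh.structureModule X)
    (g := fun _ : Fin n => Coh.structureModule X) Equiv.ulift fun _ => Iso.refl _)).1 h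

theorem isAffine_of_free_surjective [CompactSpace X]
    (h : ∀ (n : ℕ) (F F'' : X.Modules) (i : F ⟶ FlatMod.freeMod X n) (p : F ⟶ F''),
      Mono i → Epi p → Coh.IsQCoh F → Coh.IsQCoh F'' → Function.Surjective (p.app ⊤)) :
    IsAffine X := by
  classical
  have hv : ∀ (Z Z' : Set X) (hZ : Z ⊆ Z'),
      Function.Surjective ((cokernel.π (incl hZ)).app ⊤) := fun Z Z' hZ => by
    haveI : Mono (Sigma.ι (fun _ : Fin 1 => Coh.structureModule X) 0) := inferInstance
    exact h 1 _ _ ((vanIdeal Z).ι ≫ Sigma.ι (fun _ : Fin 1 => Coh.structureModule X) 0) _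
      (mono_comp _ _) inferInstance (isQCoh_vanIdeal Z)
      (isQCoh_cokernel (isQCoh_vanIdeal Z') (isQCoh_vanIdeal Z) _)
  have hcov : ∀ y : X, ∃ f : Γ(X, ⊤), y ∈ X.basicOpen f ∧ IsAffineOpen (X.basicOpen f) := fun y => by
    obtain ⟨z, hz, hzc⟩ := IsClosed.exists_closed_singleton (isClosed_closure (s := ({y} : Set X)))
      ⟨y, subset_closure rfl⟩
    obtain ⟨f, hzf, hf⟩ := exists_basicOpen_affine hv hzc
    exact ⟨f, (specializes_iff_mem_closure.2 hz).mem_open (X.basicOpen f).isOpen hzf, hf⟩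
  choose f hyf hf using hcov
  obtain ⟨t, ht⟩ := isCompact_univ.elim_finite_subcover (fun y => (X.basicOpen (f y) : Set X))
    (fun y => (X.basicOpen (f y)).isOpen) fun y _ => Set.mem_iUnion.2 ⟨y, hyf y⟩
  let σ : Fin t.card ≃ t := t.equivFin.symm
  let φ : FlatMod.freeMod X t.card ⟶ Coh.structureModule X :=
    Sigma.desc fun k => mulHom (f (σ k).1)
  have he : ∀ {N : X.Modules} (ψ : Coh.structureModule X ⟶ N), φ ≫ ψ = 0 →
      ∀ y : t, mulHom (f y.1) ≫ ψ = 0 := fun ψ hψ y => by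
    have := Sigma.ι (fun _ : Fin t.card => Coh.structureModule X) (σ.symm y) ≫= hψ
    simpa [φ] using this
  have : Epi φ := Preadditive.epi_of_cancel_zero _ fun {N} ψ hψ => by
    apply N.unitHomEquiv.injective
    refine Subtype.ext (funext fun V => ?_)
    refine (eq_zero_of_locally (M := N) V.unop _ fun p hp => ?_).trans ?_
    pick_goal 2
    · exact (rfl : (0 : Γ(N, V.unop)) = _)
    obtain ⟨y, hy, hpy⟩ := Set.mem_iUnion₂.1 (ht (Set.mem_univ p))
    let W : X.Opens := V.unop ⊓ X.basicOpen (f y)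
    refine ⟨W, homOfLE inf_le_left, ⟨hp, hpy⟩, ?_⟩
    have h0 : mulHom (f y) ≫ ψ = 0 := he ψ hψ ⟨y, hy⟩
    have hu : IsUnit (X.presheaf.map (homOfLE (le_top : W ≤ ⊤)).op (f y)) := by
      have hu : IsUnit (X.presheaf.map (homOfLE (le_top : X.basicOpen (f y) ≤ ⊤)).op (f y)) :=
        RingedSpace.isUnit_res_basicOpen X.toRingedSpace (f y)
      have := hu.map (X.presheaf.map (homOfLE (inf_le_right : W ≤ X.basicOpen (f y))).op).hom
      rwa [← ConcreteCategory.comp_apply, ← X.presheaf.map_comp] at this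
    obtain ⟨v, hv⟩ := hu
    have h1 := congrArg (fun χ : Coh.structureModule X ⟶ N =>
      χ.app W (show Γ(Coh.structureModule X, W) from ((v⁻¹ : Γ(X, W)ˣ) : Γ(X, W)))) h0
    show N.presheaf.map _ (ψ.app V.unop (show Γ(Coh.structureModule X, V.unop) from (1 : Γ(X, V.unop)))) = 0
    rw [← map_app_comm]
    refine Eq.trans (congrArg (ψ.app W) ?_) (h1.trans rfl)
    show X.presheaf.map _ (1 : Γ(X, V.unop)) = ((v⁻¹ : Γ(X, W)ˣ) : Γ(X, W)) * _
    rw [map_one, ← hv, Units.inv_mul]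
  have hq : Coh.IsQCoh (FlatMod.freeMod X t.card) := by
    exact isQCoh_free t.card
  obtain ⟨x, hx⟩ := h _ _ _ (𝟙 _) φ inferInstance this hq isQCoh_structureModule
    (show Γ(Coh.structureModule X, ⊤) from (1 : Γ(X, ⊤)))
  let π : Fin t.card → (FlatMod.freeMod X t.card ⟶ Coh.structureModule X) := fun k =>
    Sigma.desc (Pi.single k (𝟙 (Coh.structureModule X)))
  have hsum : φ = ∑ k, π k ≫ mulHom (f (σ k).1) := by
    refine Sigma.hom_ext _ _ fun l => ?_
    rw [Preadditive.comp_sum, Finset.sum_eq_single l]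
    · simp [φ, π]
    · intro k _ hk
      simp [π, Pi.single_eq_of_ne hk.symm]
    · simp
  let ev : (FlatMod.freeMod X t.card ⟶ Coh.structureModule X) →+ Γ(X, ⊤) :=
    AddMonoidHom.mk' (fun ψ => toFn (ψ.app ⊤ x)) fun _ _ => rfl
  have h1 : (1 : Γ(X, ⊤)) ∈ Ideal.span (Set.range fun k => f (σ k).1) := by
    have : ev φ = 1 := hx
    rw [← this, hsum, map_sum]
    refine sum_mem fun k _ => ?_
    show toFn ((mulHom (f (σ k).1)).app ⊤ ((π k).app ⊤ x)) ∈ _
    rw [mulHom_app]
    refine Ideal.mul_mem_left _ _ (Ideal.subset_span ⟨k, ?_⟩)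
    rw [Subsingleton.elim (homOfLE (le_top : (⊤ : X.Opens) ≤ ⊤)).op (𝟙 _), X.presheaf.map_id]
    rfl
  refine isAffine_of_isAffineOpen_basicOpen (Set.range fun k => f (σ k).1)
    ((Ideal.eq_top_iff_one _).2 h1) ?_
  rintro _ ⟨k, rfl⟩
  exact hf _

end Groth.Agent.QCoh16
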