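import Groth.Agent.QCoh.Serre
import Mathlib.AlgebraicGeometry.Morphisms.Affine
import Mathlib.AlgebraicGeometry.Morphisms.QuasiSeparated
import Mathlib.AlgebraicGeometry.Morphisms.Preimmersion
import Mathlib.AlgebraicGeometry.ResidueField

/-!
# Serre's criterion for an affine morphism, using only local lifting of functions on point sets
-/

set_option autoImplicit false

universe u

open CategoryTheory CategoryTheory.Limits AlgebraicGeometry TopologicalSpace Opposite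

namespace Groth.Agent.QCoh16

open Groth.Agent.QCoh

variable {X Y : Scheme.{u}}

theorem eval_res {U W : X.Opens} (i : W ⟶ U) (s : Γ(X, U)) (x : X) (hW : x ∈ W) :
    X.evaluation W x hW (X.presheaf.map i.op s) = X.evaluation U x (i.le hW) s := by
  show X.residue x (X.presheaf.germ W x hW (X.presheaf.map i.op s)) = _
  rw [TopCat.Presheaf.germ_res_apply]
  rfl

theorem eval_isUnit_ne_zero {U : X.Opens} {s : Γ(X, U)} (hs : IsUnit s) (x : X) (hx : x ∈ U) :
    X.evaluation U x hx s ≠ 0 := (hs.map (X.evaluation U x hx).hom).ne_zero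

/-- The inclusion of vanishing ideals. -/
noncomputable abbrev incl {Z Z' : Set X} (hZ : Z ⊆ Z') :
    (vanIdeal Z').toModules ⟶ (vanIdeal Z).toModules :=
  SubMod.homOfLE (N := vanIdeal Z') (N' := vanIdeal Z) (vanIdeal_mono hZ)

/-- Sections of quotients of vanishing ideals lift near `y`. -/
def Lifts (f : X ⟶ Y) (y : Y) : Prop :=
  ∀ (Z Z' : Set X) (hZ : Z ⊆ Z') (V : Y.Opens), y ∈ V →
    ∀ q : Γ(cokernel (incl hZ), f ⁻¹ᵁ V),
    ∃ (V' : Y.Opens) (h : V' ≤ V), y ∈ V' ∧ ∃ e : Γ((vanIdeal Z).toModules, f ⁻¹ᵁ V'),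
      (cokernel.π (incl hZ)).app (f ⁻¹ᵁ V') e =
        (cokernel (incl hZ)).presheaf.map (homOfLE (f.preimage_mono h)).op q

variable {f : X ⟶ Y} {y : Y}

/-- Prescribing the values of a function at a set of points. -/
theorem lift_values (hl : Lifts f y) {Z Z' : Set X} (hZ : Z ⊆ Z') {V : Y.Opens} (hy : y ∈ V)
    {ι : Type u} (W : ι → X.Opens) (hW : ∀ i, W i ≤ f ⁻¹ᵁ V) (hcov : f ⁻¹ᵁ V ≤ iSup W)
    (a : ∀ i, Γ(X, W i)) (ha : ∀ i, ∀ z ∈ Z, ∀ hz : z ∈ W i, X.evaluation (W i) z hz (a i) = 0)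
    (hc : ∀ i j, ∀ z ∈ Z', ∀ (hi : z ∈ W i) (hj : z ∈ W j),
      X.evaluation (W i) z hi (a i) = X.evaluation (W j) z hj (a j)) :
    ∃ (V' : Y.Opens) (_ : V' ≤ V), y ∈ V' ∧ ∃ b : Γ(X, f ⁻¹ᵁ V'),
      (∀ z ∈ Z, ∀ hz : z ∈ f ⁻¹ᵁ V', X.evaluation (f ⁻¹ᵁ V') z hz b = 0) ∧
      ∀ i, ∀ z ∈ Z', ∀ (hz : z ∈ f ⁻¹ᵁ V') (hi : z ∈ W i),
        X.evaluation (f ⁻¹ᵁ V') z hz b = X.evaluation (W i) z hi (a i) := by
  let j := incl hZ
  let S : ShortComplex X.Modules := ShortComplex.mk j (cokernel.π j) (cokernel.condition j)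
  have hS : S.ShortExact := { exact := ShortComplex.exact_of_g_is_cokernel _ (cokernelIsCokernel j) }
  have hmem : ∀ i, (show Γ(Coh.structureModule X, W i) from a i) ∈ (vanIdeal Z).mem (W i) := by
    intro i z hz hzb
    exact (X.evaluation_eq_zero_iff_notMem_basicOpen z (X.basicOpen_le _ hzb) _).1
      (ha i z hz (X.basicOpen_le _ hzb)) hzb
  choose e he using fun i => (vanIdeal Z).exists_app_eq (hmem i)
  have hcompat : TopCat.Presheaf.IsCompatible (X := X.toPresheafedSpace.carrier) S.X₃.presheaf W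
      (fun i => (show Γ(S.X₃, W i) from S.g.app (W i) (e i))) := by
    intro i k
    show S.X₃.presheaf.map (homOfLE (inf_le_left : W i ⊓ W k ≤ W i)).op (S.g.app (W i) (e i)) =
      S.X₃.presheaf.map (homOfLE (inf_le_right : W i ⊓ W k ≤ W k)).op (S.g.app (W k) (e k))
    rw [← map_app_comm, ← map_app_comm, ← sub_eq_zero, ← map_sub]
    let d : Γ(X, W i ⊓ W k) := X.presheaf.map (homOfLE (inf_le_left : W i ⊓ W k ≤ W i)).op (a i) -
      X.presheaf.map (homOfLE (inf_le_right : W i ⊓ W k ≤ W k)).op (a k)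
    have hd : (show Γ(Coh.structureModule X, W i ⊓ W k) from d) ∈ (vanIdeal Z').mem (W i ⊓ W k) := by
      intro z hz hzb
      have hz' : z ∈ W i ⊓ W k := X.basicOpen_le _ hzb
      refine (X.evaluation_eq_zero_iff_notMem_basicOpen z hz' d).1 ?_ hzb
      rw [map_sub, eval_res, eval_res, hc i k z hz hz'.1 hz'.2, sub_self]
    obtain ⟨c, hc'⟩ := (vanIdeal Z').exists_app_eq hd
    have : S.X₂.presheaf.map (homOfLE (inf_le_left : W i ⊓ W k ≤ W i)).op (e i) -
        S.X₂.presheaf.map (homOfLE (inf_le_right : W i ⊓ W k ≤ W k)).op (e k) =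
          S.f.app (W i ⊓ W k) c := by
      refine (vanIdeal Z).ι_app_injective _ ?_
      rw [map_sub, map_app_comm, map_app_comm, he, he]
      exact hc'.symm
    rw [this, app_g_f]
  obtain ⟨q, hq, -⟩ := TopCat.Sheaf.existsUnique_gluing' (X := X.toPresheafedSpace.carrier)
    (⟨S.X₃.presheaf, S.X₃.isSheaf⟩ : TopCat.Sheaf AddCommGrpCat.{u} X.toPresheafedSpace.carrier)
    _ (f ⁻¹ᵁ V) (fun i => homOfLE (hW i)) hcov _ hcompat
  obtain ⟨V', hV', hyV', b, hb⟩ := hl Z Z' hZ V hy q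
  refine ⟨V', hV', hyV', toFn ((vanIdeal Z).ι.app _ b), fun z hz hzV => ?_, fun i z hz hzV hzi => ?_⟩
  · exact (X.evaluation_eq_zero_iff_notMem_basicOpen z hzV _).2
      ((vanIdeal Z).ι_app_mem _ b z hz)
  · let W' := f ⁻¹ᵁ V' ⊓ W i
    have hzero : S.g.app W' (S.X₂.presheaf.map (homOfLE (inf_le_left : W' ≤ f ⁻¹ᵁ V')).op b -
        S.X₂.presheaf.map (homOfLE (inf_le_right : W' ≤ W i)).op (e i)) = 0 := by
      rw [map_sub, map_app_comm, map_app_comm, hb, map_map,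
        show S.g.app (W i) (e i) = _ from (hq i).symm, sub_eq_zero]
      exact (map_map (M := S.X₃) (homOfLE (inf_le_right : W' ≤ W i)) (homOfLE (hW i)) q).symm
    obtain ⟨c, hc'⟩ := exists_app_f_eq hS W' _ hzero
    have hz' : z ∈ W' := ⟨hzV, hzi⟩
    have h1 : X.evaluation W' z hz' (toFn ((vanIdeal Z').ι.app W' c)) = 0 :=
      (X.evaluation_eq_zero_iff_notMem_basicOpen z hz' _).2 ((vanIdeal Z').ι_app_mem W' c z hz)
    rw [show (vanIdeal Z').ι.app W' c = (vanIdeal Z).ι.app W' (S.f.app W' c) from rfl, hc',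
      map_sub, map_app_comm, map_app_comm, he] at h1
    rw [show toFn ((Coh.structureModule X).presheaf.map (homOfLE (inf_le_left : W' ≤ f ⁻¹ᵁ V')).op
        ((vanIdeal Z).ι.app _ b) -
      (Coh.structureModule X).presheaf.map (homOfLE (inf_le_right : W' ≤ W i)).op
        (show Γ(Coh.structureModule X, W i) from a i)) =
      X.presheaf.map (homOfLE (inf_le_left : W' ≤ f ⁻¹ᵁ V')).op (toFn ((vanIdeal Z).ι.app _ b)) -
        X.presheaf.map (homOfLE (inf_le_right : W' ≤ W i)).op (a i) from rfl,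
      map_sub, eval_res, eval_res, sub_eq_zero] at h1
    exact h1

/-- An open containing all points over generalisations of `y` contains a basic tube. -/
theorem exists_nhd_preimage_le (f : X ⟶ Y) [QuasiCompact f] {V : Y.Opens} (hV : IsAffineOpen V)
    {y : Y} (hy : y ∈ V) (O : X.Opens) (h : ∀ x : X, f x ⤳ y → x ∈ O) :
    ∃ g : Γ(Y, V), y ∈ Y.basicOpen g ∧ f ⁻¹ᵁ Y.basicOpen g ≤ O := by
  classical
  let S : Submonoid Γ(Y, V) :=
    { carrier := {g | y ∈ Y.basicOpen g}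
      mul_mem' := fun {a b} ha hb => by
        show y ∈ Y.basicOpen (a * b)
        rw [Scheme.basicOpen_mul]; exact ⟨ha, hb⟩
      one_mem' := by
        show y ∈ Y.basicOpen (1 : Γ(Y, V))
        rw [Y.basicOpen_of_isUnit isUnit_one]; exact hy }
  have key : ∀ W : X.Opens, IsAffineOpen W → W ≤ f ⁻¹ᵁ V →
      ∃ g ∈ S, W ⊓ f ⁻¹ᵁ Y.basicOpen g ≤ O := by
    intro W hW hWV
    obtain ⟨I, hI⟩ := (PrimeSpectrum.isClosed_iff_zeroLocus_ideal _).1
      ((hW.fromSpec ⁻¹ᵁ O).isOpen.isClosed_compl)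
    have hI' : ∀ p : PrimeSpectrum Γ(X, W), hW.fromSpec p ∈ O ↔ ¬ I ≤ p.asIdeal := fun p => by
      have h0 := Set.ext_iff.1 hI p
      have h1 : ¬ (hW.fromSpec p ∈ O) ↔ I ≤ p.asIdeal := h0
      exact (not_iff_comm.1 h1).symm
    have hne : ¬ Disjoint (I : Set Γ(X, W)) (S.map (f.appLE V W hWV).hom : Set Γ(X, W)) := by
      intro hd
      obtain ⟨p, hp, hIp, hdp⟩ := I.exists_le_prime_disjoint _ hd
      let x : PrimeSpectrum Γ(X, W) := ⟨p, hp⟩
      have hxO : hW.fromSpec x ∈ O := by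
        refine h _ (specializes_iff_forall_open.2 fun s hs hys => ?_)
        obtain ⟨g, hgs, hyg⟩ := hV.exists_basicOpen_le (V := ⟨s, hs⟩) ⟨y, hys⟩ hy
        refine hgs ?_
        have hgp : (f.appLE V W hWV).hom g ∉ p :=
          fun hgp => Set.disjoint_left.1 hdp hgp ⟨g, hyg, rfl⟩
        have : x ∈ hW.fromSpec ⁻¹ᵁ X.basicOpen ((f.appLE V W hWV).hom g) := by
          rw [hW.fromSpec_preimage_basicOpen]; exact hgp
        have : hW.fromSpec x ∈ X.basicOpen ((f.appLE V W hWV).hom g) := this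
        rw [Scheme.basicOpen_appLE] at this
        exact this.2
      exact (hI' x).1 hxO hIp
    obtain ⟨c, hcI, g, hg, rfl⟩ := Set.not_disjoint_iff.1 hne
    refine ⟨g, hg, fun x hx => ?_⟩
    obtain ⟨p, rfl⟩ : x ∈ Set.range hW.fromSpec := by rw [hW.range_fromSpec]; exact hx.1
    refine (hI' p).2 fun hIp => ?_
    have : hW.fromSpec p ∈ X.basicOpen ((f.appLE V W hWV).hom g) := by
      rw [Scheme.basicOpen_appLE]; exact hx
    have : p ∈ hW.fromSpec ⁻¹ᵁ X.basicOpen ((f.appLE V W hWV).hom g) := this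
    rw [hW.fromSpec_preimage_basicOpen] at this
    exact this (hIp hcI)
  obtain ⟨s, hs, hsW⟩ := isCompact_and_isOpen_iff_finite_and_eq_biUnion_affineOpens.1
    ⟨f.isCompact_preimage hV.isCompact, (f ⁻¹ᵁ V).isOpen⟩
  have hsub : ∀ W ∈ s, (W : X.Opens) ≤ f ⁻¹ᵁ V := fun W hWs x hx => by
    exact (Set.ext_iff.1 hsW x).2 (Set.mem_iUnion₂.2 ⟨W, hWs, hx⟩)
  choose g hg hgO using fun W : hs.toFinset => key _ W.1.2 (hsub _ (hs.mem_toFinset.1 W.2))
  refine ⟨∏ W, g W, Submonoid.prod_mem S fun W _ => hg W, fun x hx => ?_⟩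
  obtain ⟨W, hWs, hxW⟩ := Set.mem_iUnion₂.1 ((Set.ext_iff.1 hsW x).1 (Y.basicOpen_le _ hx :))
  let W' : hs.toFinset := ⟨W, hs.mem_toFinset.2 hWs⟩
  refine hgO W' ⟨hxW, ?_⟩
  rw [← Finset.mul_prod_erase Finset.univ g (Finset.mem_univ W')] at hx
  rw [Scheme.Hom.mem_preimage, Scheme.basicOpen_mul] at hx
  exact hx.1

/-- Every point over a generalisation of `y` specialises to a closed such point. -/
theorem exists_specializes_closed (f : X ⟶ Y) [QuasiCompact f] {x : X} (hx : f x ⤳ y) :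
    ∃ x₀ : X, x ⤳ x₀ ∧ f x₀ ⤳ y ∧ ∀ x' : X, x₀ ⤳ x' → f x' ⤳ y → x' = x₀ := by
  let j := Y.fromSpecStalk y
  let P := pullback f j
  have hcP : CompactSpace P := QuasiCompact.compactSpace_of_compactSpace (pullback.snd f j)
  have hr : ∀ z : X, z ∈ Set.range (pullback.fst f j) ↔ f z ⤳ y := fun z => by
    rw [Scheme.Pullback.range_fst, Set.mem_preimage, Scheme.range_fromSpecStalk]
    rfl
  obtain ⟨p, rfl⟩ := (hr x).2 hx
  obtain ⟨p₀, hp₀, hc⟩ := IsClosed.exists_closed_singleton (isClosed_closure (s := ({p} : Set P)))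
    ⟨p, subset_closure rfl⟩
  refine ⟨pullback.fst f j p₀,
    (specializes_iff_mem_closure.2 hp₀).map (pullback.fst f j).continuous, (hr _).1 ⟨p₀, rfl⟩,
    fun x' h₁ h₂ => ?_⟩
  obtain ⟨p', rfl⟩ := (hr x').2 h₂
  have : p₀ ⤳ p' := (pullback.fst f j).isEmbedding.isInducing.specializes_iff.1 h₁
  have h' : p' ∈ closure ({p₀} : Set P) := specializes_iff_mem_closure.1 this
  rw [hc.closure_eq] at h'
  rw [show p' = p₀ from h']

variable [QuasiCompact f]

/-- A point closed over generalisations of `y` has an affine neighbourhood cut out by a function on a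
tube. -/
theorem exists_basicOpen_tube (hl : Lifts f y) {V : Y.Opens} (hV : IsAffineOpen V) (hy : y ∈ V)
    {x : X} (hxy : f x ⤳ y) (hx : ∀ x' : X, x ⤳ x' → f x' ⤳ y → x' = x) :
    ∃ (g : Γ(Y, V)) (b : Γ(X, f ⁻¹ᵁ Y.basicOpen g)), y ∈ Y.basicOpen g ∧
      x ∈ X.basicOpen b ∧ IsAffineOpen (X.basicOpen b) := by
  obtain ⟨_, ⟨W, hW₀, rfl⟩, hxW, hWV⟩ := X.isBasis_affineOpens.exists_subset_of_mem_open
    (show x ∈ (f ⁻¹ᵁ V : X.Opens) from hxy.mem_open V.isOpen hy) (f ⁻¹ᵁ V).isOpen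
  have hW : IsAffineOpen W := hW₀
  let C : X.Opens := ⟨(closure {x})ᶜ, isClosed_closure.isOpen_compl⟩
  obtain ⟨g₁, hyg₁, hg₁⟩ := exists_nhd_preimage_le f hV hy (W ⊔ C) fun x' hx' => by
    by_cases hc : x' ∈ C
    · exact Or.inr hc
    · have : x ⤳ x' := specializes_iff_mem_closure.2 (Set.notMem_compl_iff.1 hc)
      exact Or.inl (hx x' this hx' ▸ hxW)
  let Wb : ULift.{u} Bool → X.Opens := fun b => cond b.down W C ⊓ f ⁻¹ᵁ Y.basicOpen g₁
  let a : ∀ b, Γ(X, Wb b) := fun b => match b with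
    | ⟨true⟩ => 1
    | ⟨false⟩ => 0
  obtain ⟨V', hV', hyV', b, hb0, hb1⟩ := lift_values hl
    (Z := (W : Set X)ᶜ) (Z' := insert x ((W : Set X)ᶜ)) (Set.subset_insert _ _) hyg₁ Wb
    (fun _ => inf_le_right) (fun z hz => by
      rcases hg₁ hz with hzW | hzC
      · exact Opens.mem_iSup.2 ⟨⟨true⟩, hzW, hz⟩
      · exact Opens.mem_iSup.2 ⟨⟨false⟩, hzC, hz⟩)
    a (fun b z hz hzb => by
      obtain ⟨_ | _⟩ := b
      · exact map_zero _
      · exact absurd hzb.1 hz)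
    (fun b c z hz hzb hzc => by
      obtain ⟨_ | _⟩ := b <;> obtain ⟨_ | _⟩ := c
      · rfl
      · rcases hz with rfl | hz
        · exact absurd (subset_closure (Set.mem_singleton z)) (show z ∉ closure {z} from hzb.1)
        · exact absurd hzc.1 hz
      · rcases hz with rfl | hz
        · exact absurd (subset_closure (Set.mem_singleton z)) (show z ∉ closure {z} from hzc.1)
        · exact absurd hzb.1 hz
      · rfl)
  obtain ⟨g, hgV', hyg⟩ := hV.exists_basicOpen_le (V := V') ⟨y, hyV'⟩ hy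
  have hle : f ⁻¹ᵁ Y.basicOpen g ≤ f ⁻¹ᵁ V' := f.preimage_mono hgV'
  let b' := X.presheaf.map (homOfLE hle).op b
  have hxg : x ∈ f ⁻¹ᵁ Y.basicOpen g := hxy.mem_open (Y.basicOpen g).isOpen hyg
  have hbW : X.basicOpen b' ≤ W := fun z hz => by
    by_contra hzW
    have hz' : z ∈ f ⁻¹ᵁ Y.basicOpen g := X.basicOpen_le _ hz
    refine (X.evaluation_eq_zero_iff_notMem_basicOpen z hz' b').1 ?_ hz
    rw [eval_res]
    exact hb0 z hzW (hle hz')
  refine ⟨g, b', hyg, ?_, ?_⟩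
  · refine (X.evaluation_ne_zero_iff_mem_basicOpen x hxg b').1 ?_
    rw [eval_res, hb1 ⟨true⟩ x (Set.mem_insert _ _) (hle hxg)
      ⟨hxW, hxy.mem_open (Y.basicOpen g₁).isOpen hyg₁⟩]
    show X.evaluation _ x _ (1 : Γ(X, Wb ⟨true⟩)) ≠ 0
    rw [map_one]; exact one_ne_zero
  · have hWg : IsAffineOpen (W ⊓ f ⁻¹ᵁ Y.basicOpen g) := by
      rw [← Scheme.basicOpen_appLE f W V hWV g]
      exact hW.basicOpen _
    let W' := W ⊓ f ⁻¹ᵁ Y.basicOpen g
    have := Scheme.basicOpen_res X b' (homOfLE (inf_le_right : W' ≤ f ⁻¹ᵁ Y.basicOpen g)).op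
    rw [inf_eq_right.2 (le_inf hbW (X.basicOpen_le _))] at this
    rw [← this]
    exact hWg.basicOpen _

variable [QuasiSeparated f]

/-- A tube covered by finitely many such affine opens has affine smaller tubes. -/
theorem exists_span_unit (hl : Lifts f y) {V : Y.Opens} (hV : IsAffineOpen V) (hy : y ∈ V)
    {ι : Type u} [Fintype ι] (s : ι → Γ(X, f ⁻¹ᵁ V))
    (haff : ∀ i, IsAffineOpen (X.basicOpen (s i))) (hcov : f ⁻¹ᵁ V ≤ ⨆ i, X.basicOpen (s i)) :
    ∃ g : Γ(Y, V), y ∈ Y.basicOpen g ∧ (f.app V).hom g ∈ Ideal.span (Set.range s) := by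
  classical
  let U := f ⁻¹ᵁ V
  have hUc : IsCompact (U : Set X) := f.isCompact_preimage hV.isCompact
  have hUq : IsQuasiSeparated (U : Set X) := f.isQuasiSeparated_preimage hV.isQuasiSeparated
  by_contra hne
  simp only [not_exists, not_and] at hne
  let S : Submonoid Γ(Y, V) :=
    { carrier := {g | y ∈ Y.basicOpen g}
      mul_mem' := fun {a b} ha hb => by
        show y ∈ Y.basicOpen (a * b)
        rw [Scheme.basicOpen_mul]; exact ⟨ha, hb⟩
      one_mem' := by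
        show y ∈ Y.basicOpen (1 : Γ(Y, V))
        rw [Y.basicOpen_of_isUnit isUnit_one]; exact hy }
  obtain ⟨p, hp, hsp, hdp⟩ := (Ideal.span (Set.range s)).exists_le_prime_disjoint
    (S.map (f.app V).hom) (Set.disjoint_left.2 fun a ha ⟨g, hg, hga⟩ => hne g hg (hga ▸ ha))
  have hsi : ∀ i, s i ∈ p := fun i => hsp (Ideal.subset_span ⟨i, rfl⟩)
  -- monoids
  let M : ι → Submonoid Γ(X, U) := fun i => p.primeCompl ⊔ Submonoid.powers (s i)
  have hM : ∀ i a, a ∈ M i ↔ ∃ t, t ∉ p ∧ ∃ n : ℕ, t * s i ^ n = a := fun i a => by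
    rw [Submonoid.mem_sup]
    exact ⟨fun ⟨t, ht, _, ⟨n, rfl⟩, h⟩ => ⟨t, ht, n, h⟩,
      fun ⟨t, ht, n, h⟩ => ⟨t, ht, _, ⟨n, rfl⟩, h⟩⟩
  let Sig : Set (Ideal Γ(X, U)) := {q | q.IsPrime ∧ q ≤ p ∧ ∃ i, s i ∉ q}
  obtain ⟨q₀, hq₀⟩ : ∃ q₀, q₀ ∈ Sig := by
    by_contra hall
    have hnil : ∀ i, ∃ t, t ∉ p ∧ ∃ n : ℕ, t * s i ^ n = 0 := fun i => by
      rw [← hM]
      by_contra h0
      obtain ⟨q, hq, -, hdq⟩ := (⊥ : Ideal Γ(X, U)).exists_le_prime_disjoint (M i)
        (Set.disjoint_left.2 fun a ha hb => h0 ((Submodule.mem_bot _).1 ha ▸ hb))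
      exact hall ⟨q, hq, fun a ha => by_contra fun hap =>
        Set.disjoint_left.1 hdq ha ((hM i a).2 ⟨a, hap, 0, by simp⟩), i, fun hs =>
          Set.disjoint_left.1 hdq hs ((hM i _).2 ⟨1, hp.one_notMem, 1, by simp⟩)⟩
    choose t ht n hn using hnil
    have htp : ∏ i, t i ∉ p := Submonoid.prod_mem p.primeCompl fun i _ => ht i
    refine htp ?_
    have h0 : ∏ i, t i = 0 := by
      refine TopCat.Sheaf.eq_of_locally_eq' (X := X.toPresheafedSpace.carrier)
        (⟨X.presheaf, X.sheaf.property⟩ : TopCat.Sheaf CommRingCat.{u} X.toPresheafedSpace.carrier)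
        (fun i => X.basicOpen (s i)) U (fun i => homOfLE (X.basicOpen_le _)) hcov _ _ fun i => ?_
      let r := (X.presheaf.map (homOfLE (X.basicOpen_le (s i))).op).hom
      show r (∏ i, t i) = r 0
      have : r (t i) = 0 := by
        have := congrArg r (hn i)
        rw [map_mul, map_pow, map_zero] at this
        exact ((X.toRingedSpace.isUnit_res_basicOpen (s i)).pow _).mul_left_eq_zero.1 this
      rw [← Finset.mul_prod_erase Finset.univ t (Finset.mem_univ i), map_mul, this, zero_mul,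
        map_zero]
    rw [h0]; exact p.zero_mem
  obtain ⟨q, -, hq⟩ := zorn_le_nonempty₀ Sig (fun c hc hchain z hz => by
    have hdir : DirectedOn (· ≤ ·) c := hchain.directedOn
    have hmem : ∀ a, a ∈ sSup c ↔ ∃ q ∈ c, a ∈ q := fun a =>
      Submodule.mem_sSup_of_directed ⟨z, hz⟩ hdir
    refine ⟨sSup c, ⟨⟨fun htop => ?_, fun {a b} hab => ?_⟩, sSup_le fun q hq => (hc hq).2.1, ?_⟩,
      fun q hq => le_sSup hq⟩
    · obtain ⟨q, hq, h1⟩ := (hmem 1).1 (htop ▸ Submodule.mem_top)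
      exact (hc hq).1.one_notMem h1
    · obtain ⟨q, hq, h1⟩ := (hmem _).1 hab
      exact ((hc hq).1.mem_or_mem h1).imp (fun h => (hmem _).2 ⟨q, hq, h⟩)
        fun h => (hmem _).2 ⟨q, hq, h⟩
    · by_contra hall
      have hall' : ∀ i, ∃ q ∈ c, s i ∈ q := fun i => (hmem _).1 (not_not.1 fun h => hall ⟨i, h⟩)
      choose qi hqi hsq using hall'
      obtain ⟨m, hm, hle⟩ := hdir.exists_mem_subset_of_finset_subset_biUnion
        (ι := Ideal Γ(X, U)) (f := fun q => (q : Set Γ(X, U))) ⟨z, hz⟩ (s := Finset.univ.image s)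
        (fun a ha => by
          obtain ⟨i, -, rfl⟩ := Finset.mem_image.1 ha
          exact Set.mem_biUnion (hqi i) (hsq i))
      obtain ⟨i, hi⟩ := (hc hm).2.2
      exact hi (hle (Finset.mem_image_of_mem s (Finset.mem_univ i)))) q₀ hq₀
  obtain ⟨hqprime, hqp, i₁, hi₁⟩ := hq.prop
  have hdec : ∀ i, ∃ t, t ∉ p ∧ ∃ n : ℕ, t * s i ^ n ∈ q ⊔ Ideal.span {s i₁} := fun i => by
    by_contra h0
    obtain ⟨u, hu, hqu, hdu⟩ := (q ⊔ Ideal.span {s i₁}).exists_le_prime_disjoint (M i)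
      (Set.disjoint_left.2 fun a ha hb => by
        obtain ⟨t, ht, n, rfl⟩ := (hM i a).1 hb
        exact h0 ⟨t, ht, n, ha⟩)
    have huS : u ∈ Sig := ⟨hu, fun a ha => by_contra fun hap =>
      Set.disjoint_left.1 hdu ha ((hM i a).2 ⟨a, hap, 0, by simp⟩), i, fun hs =>
        Set.disjoint_left.1 hdu hs ((hM i _).2 ⟨1, hp.one_notMem, 1, by simp⟩)⟩
    exact hi₁ (hq.le_of_ge huS (le_sup_left.trans hqu)
      (hqu (Ideal.mem_sup_right (Ideal.mem_span_singleton_self _))))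
  choose t ht n hn using hdec
  have hn' : ∀ i, ∃ c ∈ q, ∃ a, c + a * s i₁ = (∏ i, t i) * s i ^ n i := fun i => by
    have : (∏ i, t i) * s i ^ n i ∈ q ⊔ Ideal.span {s i₁} := by
      rw [← Finset.mul_prod_erase Finset.univ t (Finset.mem_univ i), mul_comm (t i), mul_assoc]
      exact Ideal.mul_mem_left _ _ (hn i)
    obtain ⟨c, hc, d, hd, h⟩ := Submodule.mem_sup.1 this
    obtain ⟨a, rfl⟩ := Ideal.mem_span_singleton'.1 hd
    exact ⟨c, hc, a, h⟩
  choose c hc a hac using hn'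
  have htp : ∏ i, t i ∉ p := Submonoid.prod_mem p.primeCompl fun i _ => ht i
  set T := ∏ i, t i
  -- the point of `q`
  let D := X.basicOpen (s i₁)
  letI : Algebra Γ(X, U) Γ(X, D) := (X.presheaf.map (homOfLE (X.basicOpen_le (s i₁))).op).hom.toAlgebra
  haveI : IsLocalization.Away (s i₁) Γ(X, D) := isLocalization_basicOpen_of_qcqs hUc hUq (s i₁)
  have hdq : Disjoint (Submonoid.powers (s i₁) : Set Γ(X, U)) q :=
    Set.disjoint_left.2 fun a hk ha => by
      obtain ⟨k, rfl⟩ := hk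
      exact hi₁ (hqprime.mem_of_pow_mem k ha)
  have hQ := IsLocalization.isPrime_of_isPrime_disjoint (Submonoid.powers (s i₁)) Γ(X, D) q hqprime hdq
  let Q : PrimeSpectrum Γ(X, D) := ⟨_, hQ⟩
  let z := (haff i₁).fromSpec Q
  have hzD : z ∈ D := by
    have : z ∈ Set.range (haff i₁).fromSpec := ⟨Q, rfl⟩
    rwa [(haff i₁).range_fromSpec] at this
  have hzU : z ∈ U := X.basicOpen_le _ hzD
  let ev := (X.evaluation U z hzU).hom
  have hev : ∀ a, ev a = 0 ↔ a ∈ q := fun a => by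
    have h1 : ev a = X.evaluation D z hzD
        (X.presheaf.map (homOfLE (X.basicOpen_le (s i₁))).op a) := (eval_res _ _ _ _).symm
    rw [h1, X.evaluation_eq_zero_iff_notMem_basicOpen]
    have h2 : ∀ b, z ∈ X.basicOpen b ↔ Q ∈ PrimeSpectrum.basicOpen b := fun (b : Γ(X, D)) => by
      rw [← (haff i₁).fromSpec_preimage_basicOpen]; rfl
    rw [h2]
    refine not_not.trans ?_
    conv_rhs => rw [← IsLocalization.comap_map_of_isPrime_disjoint (Submonoid.powers (s i₁))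
      Γ(X, D) hqprime hdq]
    rfl
  have hev₁ : ev (s i₁) ≠ 0 := fun h => hi₁ ((hev _).1 h)
  have hu : ∀ i, IsUnit (X.presheaf.map (homOfLE (X.basicOpen_le (s i))).op (s i)) :=
    fun i => X.toRingedSpace.isUnit_res_basicOpen (s i)
  obtain ⟨V', hV', hyV', b, -, hb⟩ := lift_values hl (Z := ∅) (Z' := {z}) (Set.empty_subset _) hy
    (fun i => X.basicOpen (s i)) (fun i => X.basicOpen_le _) hcov
    (fun i => X.presheaf.map (homOfLE (X.basicOpen_le (s i))).op (a i) *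
      ((hu i).unit⁻¹ ^ n i : Γ(X, X.basicOpen (s i))ˣ))
    (fun _ _ h => absurd h (Set.notMem_empty _)) (by
      intro i j w hw hwi hwj
      obtain rfl : w = z := hw
      have key : ∀ i (hi : z ∈ X.basicOpen (s i)), X.evaluation (X.basicOpen (s i)) z hi
          (X.presheaf.map (homOfLE (X.basicOpen_le (s i))).op (a i) *
            ((hu i).unit⁻¹ ^ n i : Γ(X, X.basicOpen (s i))ˣ)) = ev T / ev (s i₁) := fun i hi => by
        have hne' : ev (s i) ≠ 0 := by
          show X.evaluation U z hzU (s i) ≠ 0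
          exact (X.evaluation_ne_zero_iff_mem_basicOpen z hzU _).2 hi
        have h1 : ev (a i) * ev (s i₁) = ev T * ev (s i) ^ n i := by
          rw [← map_mul, ← map_pow, ← map_mul, ← hac i, map_add, (hev _).2 (hc i), zero_add]
        rw [map_mul, eval_res, Units.val_pow_eq_pow_val, map_pow, map_units_inv,
          IsUnit.unit_spec, eval_res]
        show ev (a i) * (ev (s i))⁻¹ ^ n i = _
        rw [inv_pow, ← div_eq_mul_inv, div_eq_div_iff (pow_ne_zero _ hne') hev₁, h1]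
      rw [key i hwi, key j hwj])
  obtain ⟨g, hgV', hyg⟩ := hV.exists_basicOpen_le (V := V') ⟨y, hyV'⟩ hy
  set g' := (f.app V).hom g
  have hg'p : g' ∉ p := fun h => Set.disjoint_left.1 hdp h ⟨g, hyg, rfl⟩
  have hpre : f ⁻¹ᵁ Y.basicOpen g = X.basicOpen g' := Scheme.preimage_basicOpen f g
  have hle : X.basicOpen g' ≤ f ⁻¹ᵁ V' := hpre ▸ f.preimage_mono hgV'
  have hzg : z ∈ X.basicOpen g' :=
    (X.evaluation_ne_zero_iff_mem_basicOpen z hzU g').1 fun h => hg'p (hqp ((hev _).1 h))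
  letI : Algebra Γ(X, U) Γ(X, X.basicOpen g') :=
    (X.presheaf.map (homOfLE (X.basicOpen_le g')).op).hom.toAlgebra
  haveI : IsLocalization.Away g' Γ(X, X.basicOpen g') := isLocalization_basicOpen_of_qcqs hUc hUq g'
  obtain ⟨k, b', hb'⟩ := IsLocalization.Away.surj g' (X.presheaf.map (homOfLE hle).op b)
  have h3 : ev b' = ev g' ^ k * (ev T / ev (s i₁)) := by
    have := congrArg (X.evaluation (X.basicOpen g') z hzg) hb'
    rw [map_mul, map_pow, eval_res, RingHom.algebraMap_toAlgebra,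
      show (X.presheaf.map (homOfLE (X.basicOpen_le g')).op).hom g' =
        X.presheaf.map (homOfLE (X.basicOpen_le g')).op g' from rfl,
      show (X.presheaf.map (homOfLE (X.basicOpen_le g')).op).hom b' =
        X.presheaf.map (homOfLE (X.basicOpen_le g')).op b' from rfl, eval_res, eval_res] at this
    rw [hb i₁ z rfl _ hzD, map_mul, eval_res] at this
    rw [← this, mul_comm]
    congr 1
    rw [Units.val_pow_eq_pow_val, map_pow, map_units_inv, IsUnit.unit_spec, eval_res]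
    show ev (a i₁) * (ev (s i₁))⁻¹ ^ n i₁ = _
    rw [inv_pow, ← div_eq_mul_inv, div_eq_div_iff (pow_ne_zero _ hev₁) hev₁, ← map_mul, ← map_pow,
      ← map_mul, ← hac i₁, map_add, (hev _).2 (hc i₁), zero_add]
  have h4 : g' ^ k * T - b' * s i₁ ∈ q := by
    rw [← hev, map_sub, map_mul, map_mul, h3, map_pow, mul_assoc, div_mul_cancel₀ _ hev₁, sub_self]
  have h5 : g' ^ k * T ∈ p := by
    simpa using p.add_mem (hqp h4) (p.mul_mem_left b' (hsi i₁))
  rcases hp.mem_or_mem h5 with h | h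
  · exact hg'p (hp.mem_of_pow_mem k h)
  · exact htp h

/-- The criterion. -/
theorem exists_affine_tube (hl : Lifts f y) {V : Y.Opens} (hV : IsAffineOpen V) (hy : y ∈ V) :
    ∃ g : Γ(Y, V), y ∈ Y.basicOpen g ∧ IsAffineOpen (f ⁻¹ᵁ Y.basicOpen g) := by
  classical
  let Good := {p : Σ g : Γ(Y, V), Γ(X, f ⁻¹ᵁ Y.basicOpen g) //
    y ∈ Y.basicOpen p.1 ∧ IsAffineOpen (X.basicOpen p.2)}
  let O : X.Opens := ⨆ p : Good, X.basicOpen p.1.2
  obtain ⟨g₀, hyg₀, hg₀⟩ := exists_nhd_preimage_le f hV hy O fun x hx => by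
    obtain ⟨x₀, hxx₀, hx₀, hclosed⟩ := exists_specializes_closed f hx
    obtain ⟨g, b, hyg, hxb, hb⟩ := exists_basicOpen_tube hl hV hy hx₀ hclosed
    exact hxx₀.mem_open O.isOpen
      (Opens.mem_iSup.2 ⟨⟨⟨g, b⟩, hyg, hb⟩, hxb⟩)
  obtain ⟨T, hT⟩ := (f.isCompact_preimage (hV.basicOpen g₀).isCompact).elim_finite_subcover
    (fun p : Good => (X.basicOpen p.1.2 : Set X)) (fun p => (X.basicOpen p.1.2).isOpen)
    (fun x hx => by
      obtain ⟨p, hp⟩ := Opens.mem_iSup.1 (hg₀ hx)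
      exact Set.mem_iUnion.2 ⟨p, hp⟩)
  let g₁ := g₀ * ∏ p : T, p.1.1.1
  let V₁ := Y.basicOpen g₁
  have hV₁ : IsAffineOpen V₁ := hV.basicOpen g₁
  have hyV₁ : y ∈ V₁ := by
    show y ∈ Y.basicOpen (g₀ * _)
    rw [Scheme.basicOpen_mul]
    refine ⟨hyg₀, ?_⟩
    refine Finset.prod_induction _ (fun g => y ∈ Y.basicOpen g) (fun a b ha hb => ?_) ?_
      (fun p _ => p.1.2.1)
    · rw [Scheme.basicOpen_mul]; exact ⟨ha, hb⟩
    · rw [Y.basicOpen_of_isUnit isUnit_one]; exact hy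
  have hle₀ : V₁ ≤ Y.basicOpen g₀ := fun w hw => by
    rw [show V₁ = Y.basicOpen (g₀ * _) from rfl, Scheme.basicOpen_mul] at hw; exact hw.1
  have hle : ∀ p : T, V₁ ≤ Y.basicOpen p.1.1.1 := fun p w hw => by
    rw [show V₁ = Y.basicOpen (g₀ * ∏ p : T, p.1.1.1) from rfl,
      ← Finset.mul_prod_erase Finset.univ (fun p : T => p.1.1.1) (Finset.mem_univ p),
      Scheme.basicOpen_mul, Scheme.basicOpen_mul] at hw
    exact hw.2.1
  let s : T → Γ(X, f ⁻¹ᵁ V₁) := fun p => X.presheaf.map (homOfLE (f.preimage_mono (hle p))).op p.1.1.2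
  have haff : ∀ p, IsAffineOpen (X.basicOpen (s p)) := fun p => by
    have hb := p.1.2.2
    have hsub : X.basicOpen p.1.1.2 ≤ f ⁻¹ᵁ V :=
      (X.basicOpen_le _).trans (f.preimage_mono (Y.basicOpen_le _))
    have := Scheme.basicOpen_appLE f (X.basicOpen p.1.1.2) V hsub g₁
    rw [show X.basicOpen (s p) = X.basicOpen ((f.appLE V _ hsub) g₁) by
      rw [this, Scheme.basicOpen_res, inf_comm]]
    exact hb.basicOpen _
  obtain ⟨g₂, hyg₂, hspan⟩ := exists_span_unit hl hV₁ hyV₁ s haff (fun x hx => by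
    obtain ⟨p, hp, hxp⟩ := Set.mem_iUnion₂.1 (hT (f.preimage_mono hle₀ hx))
    refine Opens.mem_iSup.2 ⟨⟨p, hp⟩, ?_⟩
    rw [Scheme.basicOpen_res]
    exact ⟨hx, hxp⟩)
  have haff₂ : IsAffineOpen (f ⁻¹ᵁ Y.basicOpen g₂) := by
    rw [Scheme.preimage_basicOpen]
    set g' := (f.app V₁).hom g₂
    let r := (X.presheaf.map (homOfLE (X.basicOpen_le g')).op).hom
    refine isAffineOpen_of_isAffineOpen_basicOpen _ (Set.range fun p => r (s p)) ?_ ?_
    · rw [Ideal.eq_top_iff_one]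
      have h1 : r g' ∈ Ideal.span (Set.range fun p => r (s p)) := by
        have := Ideal.mem_map_of_mem r hspan
        rw [Ideal.map_span, ← Set.range_comp] at this
        exact this
      exact (Ideal.eq_top_iff_one _).1
        (Ideal.eq_top_of_isUnit_mem _ h1 (X.toRingedSpace.isUnit_res_basicOpen g'))
    · rintro _ ⟨p, rfl⟩
      let g'' := X.presheaf.map (homOfLE (X.basicOpen_le (s p))).op g'
      have : X.basicOpen (r (s p)) = X.basicOpen g'' := by
        rw [show r (s p) = X.presheaf.map (homOfLE (X.basicOpen_le g')).op (s p) from rfl,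
          Scheme.basicOpen_res]
        show X.basicOpen g' ⊓ X.basicOpen (s p) = X.basicOpen g''
        exact (inf_comm _ _).trans (Scheme.basicOpen_res X g' (homOfLE (X.basicOpen_le (s p))).op).symm
      rw [this]
      exact (haff p).basicOpen _
  obtain ⟨g₃, hg₃, hyg₃⟩ := hV.exists_basicOpen_le (V := Y.basicOpen g₂) ⟨y, hyg₂⟩ hy
  refine ⟨g₃, hyg₃, ?_⟩
  have hsub : f ⁻¹ᵁ Y.basicOpen g₂ ≤ f ⁻¹ᵁ V :=
    f.preimage_mono ((Y.basicOpen_le _).trans (Y.basicOpen_le _))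
  have := Scheme.basicOpen_appLE f (f ⁻¹ᵁ Y.basicOpen g₂) V hsub g₃
  rw [inf_eq_right.2 (f.preimage_mono hg₃)] at this
  rw [← this]
  exact haff₂.basicOpen _

/-- Serre's criterion, relative form. -/
theorem isAffineHom_of_lifts (f : X ⟶ Y) [QuasiCompact f] [QuasiSeparated f]
    (h : ∀ y, Lifts f y) : IsAffineHom f := by
  have := fun y : Y => Y.isBasis_affineOpens.exists_subset_of_mem_open (Set.mem_univ y) isOpen_univ
  choose V' hV' hyV' using fun y : Y =>
    (by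
      obtain ⟨_, ⟨V, hV, rfl⟩, hyV, -⟩ := this y
      obtain ⟨g, hyg, hg⟩ := exists_affine_tube (h y) hV hyV
      exact ⟨⟨Y.basicOpen g, IsAffineOpen.basicOpen hV g⟩, hyg, hg⟩ :
      ∃ V : Y.affineOpens, y ∈ V.1 ∧ IsAffineOpen (f ⁻¹ᵁ V.1))
  refine (HasAffineProperty.iff_of_iSup_eq_top (P := @IsAffineHom) V' ?_).2 hyV'
  exact eq_top_iff.2 fun y _ => Opens.mem_iSup.2 ⟨y, hV' y⟩

end Groth.Agent.QCoh16
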